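import Cfsg.Agent.BpMon.Thirteen
import Cfsg.Agent.BpSpor.MBigEleven

/-!
# The Monster: involutions inverting an element of order `> 6`; four-groups commuting with an element of order 13 (helper935)
-/

set_option autoImplicit false
set_option maxRecDepth 100000

namespace Cfsg.Agent.H935.RuM

open Cfsg Cfsg.Agent.MonsterX Cfsg.Agent.MonsterX.InstData Cfsg.Agent.BpSpor.MBigModel
open Cfsg.Agent.MonsterX.MainSimple Cfsg.Agent.MonsterX.MainPack
open Subgroup (centralizer mem_centralizer_singleton_iff)

/-- **The 6-transposition property**, in the model. -/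
theorem six (g : MG) : orderOf (tG KDone.mGroup KDone.mRep * (g * tG KDone.mGroup KDone.mRep * g⁻¹)) ≤ 6 :=
  MainPack.six KDone.mGroup KDone.mRep KDone.mLat InstanceFinal.mOrbit Instance.mTrans
    InstanceFinal.mExtra.order_le g

/-- **An involution whose product with a conjugate has order `> 6` is conjugate to `z`.** -/
theorem conj_zz {u g : MG} (huu : u * u = 1) (hu : u ≠ 1) (h6 : 6 < orderOf (u * (g * u * g⁻¹))) :
    ∃ k, k * zz * k⁻¹ = u := by
  rcases MFive.Row.two u huu hu with h | ⟨k, hk⟩
  · exact h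
  · exfalso
    have h1 := six (k⁻¹ * g * k)
    set t := tG KDone.mGroup KDone.mRep with ht
    have h2 : u * (g * u * g⁻¹) = k * (t * ((k⁻¹ * g * k) * t * (k⁻¹ * g * k)⁻¹)) * k⁻¹ := by
      rw [← hk]; group
    have h3 : orderOf (u * (g * u * g⁻¹)) = orderOf (t * ((k⁻¹ * g * k) * t * (k⁻¹ * g * k)⁻¹)) := by
      rw [h2]
      exact orderOf_injective (MulAut.conj k).toMonoidHom (MulAut.conj k).injective _
    omega

/-- **`z` is the only involution of `C(z) ∩ C(x)`**, `x` of order 13. -/
theorem eq_zz {x t : MG} (hx : orderOf x = 13) (hxz : x * zz = zz * x) (htz : t * zz = zz * t) (htt : t * t = 1)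
    (ht : t ≠ 1) (hxt : x * t = t * x) : t = zz := by
  refine BpMon.Thirteen.only_inv KDone.lft LThreeB.Row.cent (x := ⟨x, mem_centralizer_singleton_iff.2 hxz⟩)
    (t := ⟨t, mem_centralizer_singleton_iff.2 htz⟩) ?_ ?_ ?_ ?_
  · rw [← Subgroup.orderOf_coe]; exact hx
  · exact Subtype.ext htt
  · intro h
    exact ht (congrArg Subtype.val h)
  · exact Subtype.ext hxt

/-- **The obstruction.** -/
theorem false_of_hom {R : Type*} [Group R] (f : R →* MG) (hf : Function.Injective f) {v w h g : R} (hvv : v * v = 1)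
    (hv : v ≠ 1) (hww : w * w = 1) (hw : w ≠ 1) (hvw : v ≠ w) (cvw : v * w = w * v) (cvh : v * h = h * v)
    (cwh : w * h = h * w) (hh : orderOf h = 13) (h6 : 6 < orderOf (v * (g * v * g⁻¹))) : False := by
  have hfv : f v ≠ 1 := fun h1 => hv (hf (by rw [h1, map_one]))
  obtain ⟨k, hk⟩ := conj_zz (u := f v) (g := f g) (by rw [← map_mul, hvv, map_one]) hfv (by
    have h1 : f v * (f g * f v * (f g)⁻¹) = f (v * (g * v * g⁻¹)) := by simp only [map_mul, map_inv]
    rw [h1, orderOf_injective f hf]
    exact h6)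
  let c : MG →* MG := (MulAut.conj k⁻¹).toMonoidHom
  have hc : Function.Injective c := (MulAut.conj k⁻¹).injective
  have hv' : c (f v) = zz := by
    change k⁻¹ * f v * k⁻¹⁻¹ = zz
    rw [← hk]; group
  have hcf : ∀ a b : R, a * b = b * a → c (f a) * c (f b) = c (f b) * c (f a) := by
    intro a b hab
    rw [← map_mul, ← map_mul, hab, map_mul, map_mul]
  have h1 : c (f w) = zz := by
    apply eq_zz (x := c (f h))
    · rw [orderOf_injective c hc, orderOf_injective f hf, hh]
    · rw [← hv']; exact (hcf _ _ cvh).symm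
    · rw [← hv']; exact (hcf _ _ cvw).symm
    · rw [← map_mul, ← map_mul, hww, map_one, map_one]
    · intro h1
      exact hw (hf (hc (by rw [h1, map_one, map_one])))
    · exact (hcf _ _ cwh).symm
  exact hvw (hf (hc (hv'.trans h1.symm)))

end Cfsg.Agent.H935.RuM
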