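import Cfsg.Agent.RuD.Letters

/-!
# Some elements of the Rudvalis group (helper935)

`v, w` : commuting involutions, `h` : an element of order 13 commuting with both, `g` : `v * v ^ g` has order 7.
-/

set_option autoImplicit false
set_option maxRecDepth 100000
set_option exponentiation.threshold 5000

namespace Cfsg.Agent.H935.RuM

open Cfsg.Agent.SporadicB Cfsg.Agent.SporadicB.RuOrder Cfsg.Agent.RuD.Letters Cfsg.Agent.SporRec.TCUpperCert

abbrev P (w : List ℕ) : RuOrder.H := wprod ml w

def kv : List ℕ := [0]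
def kw : List ℕ := [4, 0, 8]
def kh : List ℕ := [1, 2, 7]
def kg : List ℕ := [5, 0, 3, 5]
def kg' : List ℕ := [5, 7, 0, 5]
def kx : List ℕ := [0, 5, 0, 3, 5, 0, 5, 7, 0, 5]

theorem rels : chkRel [kv ++ kv, kw ++ kw, kv ++ kw ++ (kv ++ kw), (List.replicate 13 kh).flatten,
    kg ++ kg', (List.replicate 7 kx).flatten] = true := by decide +kernel

/-- equality of two words -/
noncomputable def chkW (u w : List ℕ) : Bool := (List.all [0, 29, 580, 577] fun b => Nat.beq (evalK u b) (evalK w b))

theorem eq_of_chkW {u w : List ℕ} (h : chkW u w = true) : P u = P w := by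
  apply eq_of_base
  intro b hb
  rw [evalK_eq, evalK_eq]
  have h1 := List.all_eq_true.1 h
  simp only [List.mem_cons, List.not_mem_nil, or_false] at hb
  rcases hb with rfl | rfl | rfl | rfl
  · exact Nat.eq_of_beq_eq_true (h1 0 (by simp))
  · exact Nat.eq_of_beq_eq_true (h1 29 (by simp))
  · exact Nat.eq_of_beq_eq_true (h1 580 (by simp))
  · exact Nat.eq_of_beq_eq_true (h1 577 (by simp))

theorem c_vw : chkW (kv ++ kw) (kw ++ kv) = true := by decide +kernel
theorem c_vh : chkW (kv ++ kh) (kh ++ kv) = true := by decide +kernel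
theorem c_wh : chkW (kw ++ kh) (kh ++ kw) = true := by decide +kernel

theorem ne_of_eval {u w : List ℕ} (i : ℕ) (hi : i < 4060) (h : Nat.beq (evalK u i) (evalK w i) = false) : P u ≠ P w := by
  intro he
  have h1 := evalK_eq u ⟨i, hi⟩
  have h2 := evalK_eq w ⟨i, hi⟩
  rw [show wprod ml u = wprod ml w from he] at h1
  rw [← h1, ← h2, Nat.beq_refl] at h
  exact Bool.noConfusion h

theorem pow_flatten (t : ℕ) (w : List ℕ) : P (List.replicate t w).flatten = P w ^ t := by
  induction t with
  | zero => rfl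
  | succ t ih =>
    rw [List.replicate_succ, List.flatten_cons, pow_succ', ← ih]
    exact wprod_append ml _ _

theorem exists_elts : ∃ v w h g : RuOrder.H, v * v = 1 ∧ v ≠ 1 ∧ w * w = 1 ∧ w ≠ 1 ∧ v ≠ w ∧ v * w = w * v ∧
    v * h = h * v ∧ w * h = h * w ∧ h ^ 13 = 1 ∧ h ≠ 1 ∧ (v * (g * v * g⁻¹)) ^ 7 = 1 ∧ v * (g * v * g⁻¹) ≠ 1 := by
  have hr := rel_of_chk rels
  have h1 := hr _ (List.mem_cons_self)
  have h2 := hr _ (List.mem_cons_of_mem _ List.mem_cons_self)
  have h4 := hr _ (List.mem_cons_of_mem _ (List.mem_cons_of_mem _ (List.mem_cons_of_mem _ List.mem_cons_self)))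
  have h5 := hr _ (List.mem_cons_of_mem _ (List.mem_cons_of_mem _ (List.mem_cons_of_mem _
    (List.mem_cons_of_mem _ List.mem_cons_self))))
  have h6 := hr _ (List.mem_cons_of_mem _ (List.mem_cons_of_mem _ (List.mem_cons_of_mem _
    (List.mem_cons_of_mem _ (List.mem_cons_of_mem _ List.mem_cons_self)))))
  rw [wprod_append] at h1 h2 h5
  have hg : (P kg)⁻¹ = P kg' := inv_eq_of_mul_eq_one_right h5
  have hx : P kx = P kv * (P kg * P kv * P kg') := by
    rw [show kx = kv ++ (kg ++ kv ++ kg') from rfl]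
    simp only [P, wprod_append]
  refine ⟨P kv, P kw, P kh, P kg, h1, ?_, h2, ?_, ?_, ?_, ?_, ?_, ?_, ?_, ?_, ?_⟩
  · exact ne_of_eval (w := []) 0 (by norm_num) (by decide +kernel)
  · exact ne_of_eval (w := []) 0 (by norm_num) (by decide +kernel)
  · exact ne_of_eval 0 (by norm_num) (by decide +kernel)
  · have := eq_of_chkW c_vw
    simpa only [P, wprod_append] using this
  · have := eq_of_chkW c_vh
    simpa only [P, wprod_append] using this
  · have := eq_of_chkW c_wh
    simpa only [P, wprod_append] using this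
  · rw [← pow_flatten]; exact h4
  · exact ne_of_eval (w := []) 0 (by norm_num) (by decide +kernel)
  · rw [hg, ← hx, ← pow_flatten]; exact h6
  · rw [hg, ← hx]
    exact ne_of_eval (w := []) 0 (by norm_num) (by decide +kernel)

end Cfsg.Agent.H935.RuM
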