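import Cfsg.Agent.H935.RuM.Elts
import Cfsg.Agent.H935.RuM.Mon
import Cfsg.Agent.RuLat.Main
import Cfsg.Agent.MonsterP.Equiv

/-!
# The Rudvalis group is not a subgroup of the Monster (helper935, argument of helper847)
-/

set_option autoImplicit false

namespace Cfsg.Agent.H935.RuM

open Cfsg Cfsg.Agent.SporadicB Cfsg.Agent.BpSpor.MBigModel

theorem no_model (f : RuOrder.H →* MG) : ¬ Function.Injective f := by
  intro hf
  obtain ⟨v, w, h, g, hvv, hv, hww, hw, hvw, cvw, cvh, cwh, hh, hh1, h7, h71⟩ := exists_elts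
  refine false_of_hom f hf (g := g) hvv hv hww hw hvw cvw cvh cwh ?_ ?_
  · exact orderOf_eq_prime (hp := ⟨by norm_num⟩) hh hh1
  · rw [orderOf_eq_prime (hp := ⟨by norm_num⟩) h7 h71]
    norm_num

/-- **No injective homomorphism from `Ru` to the Monster.** -/
theorem no_hom {R : Type*} [Group R] (h : Spor.IsoRu R) (f : R →* Spor.Monster) : ¬ Function.Injective f := by
  intro hf
  obtain ⟨e⟩ := h
  obtain ⟨e1⟩ : Nonempty (Spor.Ru ≃* RuOrder.H) := ⟨RuLat.Main.equiv⟩
  obtain ⟨e2⟩ := MonsterP.Equiv.equiv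
  refine no_model ((e2.toMonoidHom.comp f).comp ((e.trans e1).symm.toMonoidHom)) ?_
  exact (e2.injective.comp hf).comp (e.trans e1).symm.injective

/-- **No subgroup of the Monster is isomorphic to `Ru`.** -/
theorem no_subgroup (H : Subgroup Spor.Monster) : ¬ Spor.IsoRu ↥H := fun h =>
  no_hom h H.subtype H.subtype_injective

end Cfsg.Agent.H935.RuM
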